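import Cfsg.Agent.Lib.Comp.M22x.Cv40

set_option maxRecDepth 100000
set_option Elab.async false

namespace Cfsg.Lib.Comp.M22x

universe u

theorem Cv4_z1 : ev (gp Cv4n) [1,8] ^ (0 + 1) = ev (gp Cv4n) [8,1] :=
  eq_of_eqB (k := 14) Cv4n_ok (by norm_num) (by decide +kernel)

theorem Cv4_z2 : ev (gp Cv4n) [2,8] ^ (0 + 1) = ev (gp Cv4n) [8,2] :=
  eq_of_eqB (k := 14) Cv4n_ok (by norm_num) (by decide +kernel)

theorem Cv4_z3 : ev (gp Cv4n) [3,8] ^ (0 + 1) = ev (gp Cv4n) [8,3] :=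
  eq_of_eqB (k := 14) Cv4n_ok (by norm_num) (by decide +kernel)

theorem Cv4_z4 : ev (gp Cv4n) [4,8] ^ (0 + 1) = ev (gp Cv4n) [8,4] :=
  eq_of_eqB (k := 14) Cv4n_ok (by norm_num) (by decide +kernel)

theorem Cv4_z5 : ev (gp Cv4n) [5,8] ^ (0 + 1) = ev (gp Cv4n) [8,5] :=
  eq_of_eqB (k := 14) Cv4n_ok (by norm_num) (by decide +kernel)

theorem Cv4_z6 : ev (gp Cv4n) [6,8] ^ (0 + 1) = ev (gp Cv4n) [8,6] :=
  eq_of_eqB (k := 14) Cv4n_ok (by norm_num) (by decide +kernel)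

theorem Cv4_z7 : ev (gp Cv4n) [7,8] ^ (0 + 1) = ev (gp Cv4n) [8,7] :=
  eq_of_eqB (k := 14) Cv4n_ok (by norm_num) (by decide +kernel)

theorem Cv4_a : ev (gp Cv4n) (apd [2] [1]) ^ (0 + 1) = ev (gp Cv4n) [] :=
  eq_of_eqB (k := 14) Cv4n_ok (by norm_num) (by decide +kernel)

theorem Cv4_b : ev (gp Cv4n) (apd [5,4] [4,5]) ^ (0 + 1) = ev (gp Cv4n) [] :=
  eq_of_eqB (k := 14) Cv4n_ok (by norm_num) (by decide +kernel)

theorem Cv4_c : ev (gp Cv4n) (apd [2] (apd [5,4] (apd [1] [4,5]))) ^ (2 + 1) = ev (gp Cv4n) [8] :=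
  eq_of_eqB (k := 14) Cv4n_ok (by norm_num) (by decide +kernel)

theorem Cv4 (hs : IsSimpleGroup (cl (gp nets) L)) : Cover (cl (gp nets) L) (2 ^ (1 + 1)) :=
  cover_nets (R := R) hs nets_iv nets_rel (ord.of_cons (cons_of_subset (by decide +kernel))) lb Cv4n_ok Cv4n_rel (m := 4) (by decide +kernel)
    (by unfold L; simp only [List.forall_mem_cons]; exact ⟨Cv4_z1, Cv4_z2, Cv4_z3, Cv4_z4, Cv4_z5, Cv4_z6, Cv4_z7, by simp⟩) Cv4_a Cv4_b Cv4_c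
    (x := 1) (y := 3) (k := 3) (pt := 1) (pt' := 0) (by norm_num) (by decide +kernel) (by norm_num) (by decide +kernel)

end Cfsg.Lib.Comp.M22x
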