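import Cfsg.Agent.Lib.Comp.M22x.Base

set_option maxRecDepth 100000
set_option Elab.async false

namespace Cfsg.Lib.Comp.M22x

universe u

noncomputable def T2_R : List (List ℕ × ℕ) := [([3],1),
 ([4],1),
 ([1],2),
 ([3,4],1),
 ([1,3],2),
 ([1,4],2),
 ([1,4,2,3],1),
 ([5],1),
 ([1,5],2),
 ([4,5],2),
 ([1,5,3,4],1),
 ([3,5],4),
 ([1,2],0)]

noncomputable def T2_n_1 : Net :=
 (Net.cons 10 (nat_lit 0x270)
 (Net.cons 5 (nat_lit 0x2000)
 (Net.cons 1 (nat_lit 0x20024)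
 (Net.cons 1 (nat_lit 0x12942)
 (Net.cons 1 (nat_lit 0x284a0)
 (Net.cons 1 (nat_lit 0x40)
 (Net.cons 1 (nat_lit 0x20)
 (Net.cons 5 (nat_lit 0x6c00)
 (Net.cons 10 (nat_lit 0x1f0)
 Net.nil)))))))))

noncomputable def T2_n_3 : Net :=
 (Net.cons 10 (nat_lit 0x2c4)
 (Net.cons 5 (nat_lit 0x3008)
 (Net.cons 1 (nat_lit 0x14a4)
 (Net.cons 1 (nat_lit 0x5204a)
 (Net.cons 1 (nat_lit 0x10a4)
 (Net.cons 1 (nat_lit 0x4a)
 (Net.cons 5 (nat_lit 0x3008)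
 (Net.cons 10 (nat_lit 0x2c4)
 Net.nil))))))))

noncomputable def T2_n_4 : Net :=
 (Net.cons 10 (nat_lit 0x2c4)
 (Net.cons 5 (nat_lit 0x2)
 (Net.cons 1 (nat_lit 0x10a0)
 (Net.cons 1 (nat_lit 0x5280a)
 (Net.cons 1 (nat_lit 0x21400)
 (Net.cons 1 (nat_lit 0x52800)
 (Net.cons 1 (nat_lit 0x1000)
 (Net.cons 5 (nat_lit 0x5802)
 (Net.cons 10 (nat_lit 0x2c4)
 Net.nil)))))))))

noncomputable def T2_n_5 : Net :=
 (Net.cons 10 (nat_lit 0x2d0)
 (Net.cons 5 (nat_lit 0x1000)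
 (Net.cons 1 (nat_lit 0x9485)
 (Net.cons 1 (nat_lit 0x42940)
 (Net.cons 1 (nat_lit 0x1080)
 (Net.cons 1 (nat_lit 0x2940)
 (Net.cons 1 (nat_lit 0x400)
 (Net.cons 5 (nat_lit 0x1000)
 (Net.cons 10 (nat_lit 0x2d0)
 Net.nil)))))))))

noncomputable def T2_n : List Net := [Net.nil,
 T2_n_1,
 Net.rev T2_n_1,
 T2_n_3,
 T2_n_4,
 T2_n_5]

theorem T2_n_ok : NetsOK 20 T2_n := netsOK_of (by decide +kernel)

theorem T2_n_rel : Rels (gp T2_n) T2_R := rels_of_relsB (k := 5) T2_n_ok (by norm_num) (by decide +kernel)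

noncomputable def T2_b0h : ℕ := (nat_lit 0x50000120000090004000014000016000100000600001600030000090000140002000006000014)

noncomputable def T2_b0c : List ℕ := [(nat_lit 0x500000d00000b00000a00000600000800000400550700000b000008000004000008000001002005000000000003000006000002000006000002001a05000000000005)]

theorem T2_fin : finB 20 T2_n [1,2,3,4,5] 20 (runH 20 T2_n (tbk 5 4 prs5 T2_n 32) iv T2_R [] ([1,2,3,4].map fun x => [x]) 0 [(fun t => look T2_b0h 64 t, T2_b0c)]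
  [1,5,9,13,0,4,12,28,40,48,4,8,12,16,20,24,32,36,48,0,4,12,16,28,40,44,48,28,32,36,48,2,28,32,40,48,0,8,12,24,28,40,44,36]
  (defsH 20 T2_n (ones 160) [5,1,2,3,4,5,1,2] (Nat.shiftLeft 1 0) 0)) = true := by decide +kernel

theorem T2_idx : Idx.{u} iv (T2_R ++ []) ([1,2,3,4].map fun x => [x]) [1,2,3,4,5] 20 :=
  Reach.idx T2_n_ok (reach_runH T2_n_ok (tbk_eq tr5 (by norm_num) (by norm_num) (by norm_num) T2_n_ok) T2_n_rel (reach_defsH T2_n_ok _ _ _ _ _ _) _ _) T2_fin (by norm_num)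

end Cfsg.Lib.Comp.M22x
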