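import Cfsg.Agent.Lib.Comp.M22x.Perm
import Cfsg.Agent.Lib.Comp.PermGrp
import Cfsg.Agent.Lib.Comp.Bridge2
import Cfsg.Agent.Lib.Comp.M22x.T0
import Cfsg.Agent.Lib.Comp.M22x.T1
import Cfsg.Agent.Lib.Comp.M22x.T2
import Cfsg.Agent.Lib.Comp.M22x.T3
import Cfsg.Agent.Lib.Comp.Out
import Cfsg.Agent.Lib.Comp.M22.Perm

set_option maxRecDepth 100000
set_option Elab.async false

namespace Cfsg.Lib.Comp.M22x

universe u

theorem T3_ord : Ord.{u} iv T3_R [1,2,3,4] 48 :=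
  (T3_idx.ord_base).of_cons (cons_of_subset (by decide +kernel))

theorem T2_ord : Ord.{u} iv T2_R [1,2,3,4,5] 960 :=
  (T2_idx.ord_step T3_ord).of_cons (cons_of_subset (by decide +kernel))

theorem T1_ord : Ord.{u} iv T1_R [1,2,3,4,5,6] 20160 :=
  (T1_idx.ord_step T2_ord).of_cons (cons_of_subset (by decide +kernel))

theorem T0_ord : Ord.{u} iv T0_R [1,2,3,4,5,6,7] 443520 :=
  (T0_idx.ord_step T1_ord).of_cons (cons_of_subset (by decide +kernel))

theorem ord : Ord.{u} iv R L 443520 := T0_ord.of_cons (cons_of_subset (by decide +kernel))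

theorem card : Nat.card (cl (gp nets) L) = 443520 := card_of_ord ord nets_iv nets_rel lb

noncomputable def lpi : Net :=
 (Net.cons 12 (nat_lit 0x76a)
 (Net.cons 6 (nat_lit 0x2c000)
 (Net.cons 3 (nat_lit 0x80)
 (Net.cons 1 (nat_lit 0x248)
 (Net.cons 1 (nat_lit 0x482412)
 (Net.cons 1 (nat_lit 0x200201)
 (Net.cons 3 (nat_lit 0x103085)
 (Net.cons 6 (nat_lit 0x38025)
 (Net.cons 12 (nat_lit 0x534)
 Net.nil)))))))))

theorem lpi_ok : lpi.ok 24 := ok_of_netOK (by decide +kernel)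

theorem l_m1 : gp nets 1 ∈ (cl (gp M22.nets) M22.L).map (MulAut.conj lpi.perm).toMonoidHom :=
  mem_conj_of_eqB (k := 5) (w := [72,73]) M22.nets_ok (by norm_num) lpi_ok (nets_ok 1)
    (fun _ h => cl_eq_of_slpB M22.nets_ok (by norm_num) M22.slp_ok ▸ mem_cl h) (by decide +kernel)

theorem l_m2 : gp nets 2 ∈ (cl (gp M22.nets) M22.L).map (MulAut.conj lpi.perm).toMonoidHom :=
  mem_conj_of_eqB (k := 5) (w := [77,71,74]) M22.nets_ok (by norm_num) lpi_ok (nets_ok 2)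
    (fun _ h => cl_eq_of_slpB M22.nets_ok (by norm_num) M22.slp_ok ▸ mem_cl h) (by decide +kernel)

theorem l_m3 : gp nets 3 ∈ (cl (gp M22.nets) M22.L).map (MulAut.conj lpi.perm).toMonoidHom :=
  mem_conj_of_eqB (k := 5) (w := [76,74,76]) M22.nets_ok (by norm_num) lpi_ok (nets_ok 3)
    (fun _ h => cl_eq_of_slpB M22.nets_ok (by norm_num) M22.slp_ok ▸ mem_cl h) (by decide +kernel)

theorem l_m4 : gp nets 4 ∈ (cl (gp M22.nets) M22.L).map (MulAut.conj lpi.perm).toMonoidHom :=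
  mem_conj_of_eqB (k := 5) (w := [76,72]) M22.nets_ok (by norm_num) lpi_ok (nets_ok 4)
    (fun _ h => cl_eq_of_slpB M22.nets_ok (by norm_num) M22.slp_ok ▸ mem_cl h) (by decide +kernel)

theorem l_m5 : gp nets 5 ∈ (cl (gp M22.nets) M22.L).map (MulAut.conj lpi.perm).toMonoidHom :=
  mem_conj_of_eqB (k := 5) (w := [71,74,67,74]) M22.nets_ok (by norm_num) lpi_ok (nets_ok 5)
    (fun _ h => cl_eq_of_slpB M22.nets_ok (by norm_num) M22.slp_ok ▸ mem_cl h) (by decide +kernel)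

theorem l_m6 : gp nets 6 ∈ (cl (gp M22.nets) M22.L).map (MulAut.conj lpi.perm).toMonoidHom :=
  mem_conj_of_eqB (k := 5) (w := [76,75,68,76,66]) M22.nets_ok (by norm_num) lpi_ok (nets_ok 6)
    (fun _ h => cl_eq_of_slpB M22.nets_ok (by norm_num) M22.slp_ok ▸ mem_cl h) (by decide +kernel)

theorem l_m7 : gp nets 7 ∈ (cl (gp M22.nets) M22.L).map (MulAut.conj lpi.perm).toMonoidHom :=
  mem_conj_of_eqB (k := 5) (w := [77,73,67,64,71,1,1,65]) M22.nets_ok (by norm_num) lpi_ok (nets_ok 7)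
    (fun _ h => cl_eq_of_slpB M22.nets_ok (by norm_num) M22.slp_ok ▸ mem_cl h) (by decide +kernel)

theorem perm : Nonempty (Spor.M22 ≃* cl (gp nets) L) := by
  obtain ⟨e⟩ := M22.perm
  have := M22.nets_ok.finite M22.L
  obtain ⟨φ, h1, h2⟩ := relabel e lpi.perm (G' := cl (gp nets) L)
    (cl_le.2 (by unfold L; simp only [List.forall_mem_cons]; exact ⟨l_m1, l_m2, l_m3, l_m4, l_m5, l_m6, l_m7, by simp⟩)) (M22.card.trans_le lb)
  exact ⟨(MonoidHom.ofInjective h1).trans (MulEquiv.subgroupCongr h2)⟩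

end Cfsg.Lib.Comp.M22x
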