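import Cfsg.Agent.Lib.Comp.M22x.MuH0_0
import Cfsg.Agent.Lib.Comp.M22x.MuH0_1
import Cfsg.Agent.Lib.Comp.M22x.MuH0_2
import Cfsg.Agent.Lib.Comp.M22x.MuH1_0
import Cfsg.Agent.Lib.Comp.M22x.MuH1_1
import Cfsg.Agent.Lib.Comp.M22x.Mu0
import Cfsg.Agent.Lib.Comp.M22x.Main
import Cfsg.Agent.Lib.Comp.Cover

set_option maxRecDepth 100000
set_option Elab.async false

namespace Cfsg.Lib.Comp.M22x

universe u

theorem MuH0_2_ord : Ord.{u} iv MuH0_2_R [1,2] 3 :=
  (MuH0_2_idx.ord_base).of_cons (cons_of_subset (by decide +kernel))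

theorem MuH0_1_ord : Ord.{u} iv MuH0_1_R [1,2,3] 12 :=
  (MuH0_1_idx.ord_step MuH0_2_ord).of_cons (cons_of_subset (by decide +kernel))

theorem MuH0_0_ord : Ord.{u} iv MuH0_0_R [1,2,3,6] 168 :=
  (MuH0_0_idx.ord_step MuH0_1_ord).of_cons (cons_of_subset (by decide +kernel))

noncomputable def MuH0_lb_n_1 : Net :=
 (Net.cons 4 (nat_lit 0x8)
 (Net.cons 2 (nat_lit 0x20)
 (Net.cons 1 (nat_lit 0x41)
 (Net.cons 2 (nat_lit 0x1)
 (Net.cons 4 (nat_lit 0x8)
 Net.nil)))))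

noncomputable def MuH0_lb_n_3 : Net :=
 (Net.cons 4 (nat_lit 0x4)
 (Net.cons 1 (nat_lit 0x1)
 (Net.cons 2 (nat_lit 0x10)
 (Net.cons 4 (nat_lit 0x4)
 Net.nil))))

noncomputable def MuH0_lb_n_6 : Net :=
 (Net.cons 2 (nat_lit 0x2)
 (Net.cons 1 (nat_lit 0x1)
 (Net.cons 2 (nat_lit 0x2)
 (Net.cons 4 (nat_lit 0x4)
 Net.nil))))

noncomputable def MuH0_lb_n_64 : Net :=
 (Net.cons 4 (nat_lit 0xc)
 (Net.cons 2 (nat_lit 0x22)
 (Net.cons 1 (nat_lit 0x14)
 (Net.cons 2 (nat_lit 0x12)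
 (Net.cons 4 (nat_lit 0xa)
 Net.nil)))))

noncomputable def MuH0_lb_n_66 : Net :=
 (Net.cons 4 (nat_lit 0x6)
 Net.nil)

noncomputable def MuH0_lb_n_67 : Net :=
 (Net.cons 1 (nat_lit 0x14)
 Net.nil)

noncomputable def MuH0_lb_n_68 : Net :=
 (Net.cons 4 (nat_lit 0xc)
 (Net.cons 1 (nat_lit 0x50)
 (Net.cons 2 (nat_lit 0x30)
 (Net.cons 4 (nat_lit 0xc)
 Net.nil))))

noncomputable def MuH0_lb_n : List Net := (apd [Net.nil,
 MuH0_lb_n_1,
 Net.rev MuH0_lb_n_1,
 MuH0_lb_n_3,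
 Net.nil,
 Net.nil,
 MuH0_lb_n_6,
 Net.nil,
 Net.nil,
 Net.nil,
 Net.nil,
 Net.nil,
 Net.nil,
 Net.nil,
 Net.nil,
 Net.nil,
 Net.nil,
 Net.nil,
 Net.nil,
 Net.nil,
 Net.nil,
 Net.nil,
 Net.nil,
 Net.nil,
 Net.nil,
 Net.nil,
 Net.nil,
 Net.nil,
 Net.nil,
 Net.nil,
 Net.nil,
 Net.nil,
 Net.nil,
 Net.nil,
 Net.nil,
 Net.nil,
 Net.nil,
 Net.nil,
 Net.nil,
 Net.nil]
 [Net.nil,
 Net.nil,
 Net.nil,
 Net.nil,
 Net.nil,
 Net.nil,
 Net.nil,
 Net.nil,
 Net.nil,
 Net.nil,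
 Net.nil,
 Net.nil,
 Net.nil,
 Net.nil,
 Net.nil,
 Net.nil,
 Net.nil,
 Net.nil,
 Net.nil,
 Net.nil,
 Net.nil,
 Net.nil,
 Net.nil,
 Net.nil,
 MuH0_lb_n_64,
 Net.rev MuH0_lb_n_64,
 MuH0_lb_n_66,
 MuH0_lb_n_67,
 MuH0_lb_n_68])

theorem MuH0_lb_n_ok : NetsOK 8 MuH0_lb_n := netsOK_of (by decide +kernel)

theorem MuH0_lb : 168 ≤ Nat.card (cl (gp nets) [1,2,3,6]) :=
  lb_of_itwB (k := 3) (n := 7) nets_ok MuH0_lb_n_ok (by norm_num) (by norm_num) (tbA_pt nets_ok) (tbA_pt MuH0_lb_n_ok) (φ := look2 (nat_lit 0x15000130000d00014000070001000005) 20 64) (by decide +kernel) (by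
    rw [← cl_eq_of_slpB (k := 3) (D := [(64,[3,2]),
 (65,[1,3]),
 (66,[1,6,2]),
 (67,[65,66,64]),
 (68,[64,66,64,66])]) MuH0_lb_n_ok (by norm_num) (by decide +kernel)]
    exact lb_of_chainB MuH0_lb_n_ok (C := [([64,65,66,67,68],[1,3,6,1],0,0,7),
 ([67,68],[64,64,66,64],1,1,6),
 ([],[67,68],2,2,4)]) (by decide +kernel))

theorem MuH1_1_ord : Ord.{u} iv MuH1_1_R [3] 2 :=
  (MuH1_1_idx.ord_base).of_cons (cons_of_subset (by decide +kernel))

theorem MuH1_0_ord : Ord.{u} iv MuH1_0_R [3,5] 10 :=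
  (MuH1_0_idx.ord_step MuH1_1_ord).of_cons (cons_of_subset (by decide +kernel))

noncomputable def MuH1_lb_n_3 : Net :=
 (Net.cons 1 (nat_lit 0xa)
 Net.nil)

noncomputable def MuH1_lb_n_5 : Net :=
 (Net.cons 1 (nat_lit 0x5)
 Net.nil)

noncomputable def MuH1_lb_n : List Net := [Net.nil,
 Net.nil,
 Net.nil,
 MuH1_lb_n_3,
 Net.nil,
 MuH1_lb_n_5]

theorem MuH1_lb_n_ok : NetsOK 5 MuH1_lb_n := netsOK_of (by decide +kernel)

theorem MuH1_lb : 10 ≤ Nat.card (cl (gp nets) [3,5]) :=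
  lb_of_itwB (k := 3) (n := 5) nets_ok MuH1_lb_n_ok (by norm_num) (by norm_num) (tbA_pt nets_ok) (tbA_pt MuH1_lb_n_ok) (φ := look2 (nat_lit 0x900004000110000f00002) 20 64) (by decide +kernel) (by
    rw [← cl_eq_of_slpB (k := 3) (D := []) MuH1_lb_n_ok (by norm_num) (by decide +kernel)]
    exact lb_of_chainB MuH1_lb_n_ok (C := [([3],[5,3,5,3],0,0,5),
 ([],[3],1,1,2)]) (by decide +kernel))

theorem Mu_mb : MB (cl (gp nets) L) 27720 12 :=
  mb_cyc (w := 38) (n := 26) (La := L) (ix := nth 0 [0,0,0,0,1,7,12,19]) (by norm_num) (by norm_num) (nets_iv.sval _) (nets_rel.sval fun r hr x hx => mem_cl (sub_of_allR (by decide +kernel) r hr x hx)) (by decide +kernel)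
    (TStep.trans (TStep.trans (TStep.trans (TStep.trans (TStep.trans (TStep.trans (TStep.trans (TStep.trans (TStep.trans (TStep.trans (TStep.trans (TStep.trans (TStep.trans (TStep.trans (TStep.trans (TStep.trans (TStep.trans (TStep.repar (k' := 20) (by norm_num) (by norm_num) (by decide +kernel) (by decide +kernel) Mu1_b)
    (TStep.enum0 (by norm_num) (by norm_num) Mu2_0 (Gs := Mu2G) (by decide +kernel)))
    (TStep.repar (k' := 19) (by norm_num) (by norm_num) (by decide +kernel) (by decide +kernel) Mu3_b))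
    (TStep.enum0 (by norm_num) (by norm_num) Mu4_0 (Gs := Mu4G) (by decide +kernel)))
    (TStep.repar (k' := 16) (by norm_num) (by norm_num) (by decide +kernel) (by decide +kernel) Mu5_b))
    (TStep.enum0 (by norm_num) (by norm_num) Mu6_0 (Gs := Mu6G) (by decide +kernel)))
    (TStep.repar (k' := 11) (by norm_num) (by norm_num) (by decide +kernel) (by decide +kernel) Mu7_b))
    (TStep.enum0 (by norm_num) (by norm_num) Mu8_0 (Gs := Mu8G) (by decide +kernel)))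
    (TStep.repar (k' := 6) (by norm_num) (by norm_num) (by decide +kernel) (by decide +kernel) Mu9_b))
    (TStep.repar (k' := 6) (by norm_num) (by norm_num) (by decide +kernel) (by decide +kernel) Mu10_b))
    (TStep.enum (by norm_num) (by norm_num) Mu11_0 (I := [0,2,4,12,14,15,18,25]) (by decide +kernel) (by decide +kernel) MuH0_0_ord (c := 1) (lb_sval (fun _ hx => mem_cl (sub_of_subB (by decide +kernel) _ hx)) MuH0_lb (by norm_num)) (Gs := Mu11G) (by decide +kernel)))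
    (TStep.repar (k' := 4) (by norm_num) (by norm_num) (by decide +kernel) (by decide +kernel) Mu12_b))
    (TStep.enum (by norm_num) (by norm_num) Mu13_0 (I := [0,2,4,12,14,15,18,25]) (by decide +kernel) (by decide +kernel) MuH0_0_ord (c := 1) (lb_sval (fun _ hx => mem_cl (sub_of_subB (by decide +kernel) _ hx)) MuH0_lb (by norm_num)) (Gs := Mu13G) (by decide +kernel)))
    (TStep.repar (k' := 2) (by norm_num) (by norm_num) (by decide +kernel) (by decide +kernel) Mu14_b))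
    (TStep.repar (k' := 2) (by norm_num) (by norm_num) (by decide +kernel) (by decide +kernel) Mu15_b))
    (TStep.enum (by norm_num) (by norm_num) Mu16_0 (I := [0,7,11]) (by decide +kernel) (by decide +kernel) MuH1_0_ord (c := 1) (lb_sval (fun _ hx => mem_cl (sub_of_subB (by decide +kernel) _ hx)) MuH1_lb (by norm_num)) (Gs := Mu16G) (by decide +kernel)))
    (TStep.repar (k' := 1) (by norm_num) (by norm_num) (by decide +kernel) (by decide +kernel) Mu17_b))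
    (TStep.cons (by norm_num) (by norm_num) (c := (nat_lit 0x1)) (v := 12) (by decide +kernel) (by decide +kernel)))
    (by norm_num) List.mem_cons_self (by norm_num)
    (TStep.repar (k' := 0) (by norm_num) (by norm_num) (by decide +kernel) (by decide +kernel) Mu19_b)
    (L := [1,2,3,4,5,6,7]) (I := [0,1,2,3,4,5,6,7,8,9,10,11,12,13,14,15,16,17,18,19,20,21,22,23,24,25]) (by decide +kernel) (by decide +kernel) ord card.ge (cl_sval_top _ _)

end Cfsg.Lib.Comp.M22x
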