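import Cfsg.Agent.Lib.Comp.M22x.Base

set_option maxRecDepth 100000
set_option Elab.async false

namespace Cfsg.Lib.Comp.M22x

universe u

noncomputable def MuH0_0_R : List (List ℕ × ℕ) := [([3],1),
 ([1],2),
 ([1,3],2),
 ([6],1),
 ([1,6],2),
 ([3,6],2),
 ([1,3,1,6,3,2,6,3,1,6],0),
 ([1,2],0)]

noncomputable def MuH0_0_n_1 : Net :=
 (Net.cons 8 (nat_lit 0x9c)
 (Net.cons 4 (nat_lit 0x8)
 (Net.cons 2 (nat_lit 0x2202)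
 (Net.cons 1 (nat_lit 0x1444)
 (Net.cons 2 (nat_lit 0x2012)
 (Net.cons 4 (nat_lit 0x10a)
 (Net.cons 8 (nat_lit 0x9a)
 Net.nil)))))))

noncomputable def MuH0_0_n_3 : Net :=
 (Net.cons 8 (nat_lit 0x80)
 (Net.cons 4 (nat_lit 0xa)
 (Net.cons 2 (nat_lit 0x2002)
 (Net.cons 1 (nat_lit 0x1554)
 (Net.cons 2 (nat_lit 0x2002)
 (Net.cons 4 (nat_lit 0xa)
 (Net.cons 8 (nat_lit 0x80)
 Net.nil)))))))

noncomputable def MuH0_0_n_6 : Net :=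
 (Net.cons 8 (nat_lit 0xec)
 (Net.cons 4 (nat_lit 0x804)
 (Net.cons 2 (nat_lit 0x2020)
 (Net.cons 1 (nat_lit 0x1441)
 (Net.cons 2 (nat_lit 0x3120)
 (Net.cons 4 (nat_lit 0x704)
 (Net.cons 8 (nat_lit 0xec)
 Net.nil)))))))

noncomputable def MuH0_0_n : List Net := [Net.nil,
 MuH0_0_n_1,
 Net.rev MuH0_0_n_1,
 MuH0_0_n_3,
 Net.nil,
 Net.nil,
 MuH0_0_n_6]

theorem MuH0_0_n_ok : NetsOK 16 MuH0_0_n := netsOK_of (by decide +kernel)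

theorem MuH0_0_n_rel : Rels (gp MuH0_0_n) MuH0_0_R := rels_of_relsB (k := 4) MuH0_0_n_ok (by norm_num) (by decide +kernel)

theorem MuH0_0_fin : finB 16 MuH0_0_n [1,2,3,6] 14 (runH 16 MuH0_0_n (fun x p => ptInv (nth Net.nil MuH0_0_n x) p) iv MuH0_0_R [] ([1,2,3].map fun x => [x]) 0 []
  [1,5,9,0,12,20,24,28,4,8,16,20,24,28,0,4,12,16,20,24]
  (defsH 16 MuH0_0_n (ones 128) [6,1,2,3,6,1,2,6] (Nat.shiftLeft 1 0) 0)) = true := by decide +kernel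

theorem MuH0_0_idx : Idx.{u} iv (MuH0_0_R ++ []) ([1,2,3].map fun x => [x]) [1,2,3,6] 14 :=
  Reach.idx MuH0_0_n_ok (reach_runH MuH0_0_n_ok (fun x p _ => ptInv_gp MuH0_0_n_ok x p) MuH0_0_n_rel (reach_defsH MuH0_0_n_ok _ _ _ _ _ _) _ _) MuH0_0_fin (by norm_num)

end Cfsg.Lib.Comp.M22x
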