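import Cfsg.Agent.Lib.Comp.M22x.Base

set_option maxRecDepth 100000
set_option Elab.async false

namespace Cfsg.Lib.Comp.M22x

universe u

noncomputable def nets_1 : Net :=
 (Net.cons 12 (nat_lit 0x708)
 (Net.cons 6 (nat_lit 0x38000)
 (Net.cons 1 (nat_lit 0x249200)
 (Net.cons 1 (nat_lit 0x402490)
 (Net.cons 1 (nat_lit 0x201200)
 (Net.cons 3 (nat_lit 0x1c1140)
 (Net.cons 6 (nat_lit 0x35020)
 (Net.cons 12 (nat_lit 0x5d0)
 Net.nil))))))))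

noncomputable def nets_3 : Net :=
 (Net.cons 12 (nat_lit 0x6d0)
 (Net.cons 6 (nat_lit 0x14030)
 (Net.cons 3 (nat_lit 0x2000)
 (Net.cons 1 (nat_lit 0x249048)
 (Net.cons 1 (nat_lit 0x90490)
 (Net.cons 1 (nat_lit 0x48048)
 (Net.cons 3 (nat_lit 0x2000)
 (Net.cons 6 (nat_lit 0x16030)
 (Net.cons 12 (nat_lit 0x6d0)
 Net.nil)))))))))

noncomputable def nets_4 : Net :=
 (Net.cons 12 (nat_lit 0x840)
 (Net.cons 6 (nat_lit 0x2c01c)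
 (Net.cons 3 (nat_lit 0x2006)
 (Net.cons 1 (nat_lit 0x1248)
 (Net.cons 1 (nat_lit 0x10012)
 (Net.cons 1 (nat_lit 0x8)
 (Net.cons 3 (nat_lit 0x1420c6)
 (Net.cons 6 (nat_lit 0x2c01c)
 (Net.cons 12 (nat_lit 0x840)
 Net.nil)))))))))

noncomputable def nets_5 : Net :=
 (Net.cons 12 (nat_lit 0x2a0)
 (Net.cons 6 (nat_lit 0x20000)
 (Net.cons 3 (nat_lit 0x6106)
 (Net.cons 1 (nat_lit 0x49208)
 (Net.cons 1 (nat_lit 0x10492)
 (Net.cons 1 (nat_lit 0x8208)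
 (Net.cons 3 (nat_lit 0x106106)
 (Net.cons 6 (nat_lit 0x20000)
 (Net.cons 12 (nat_lit 0x2ac)
 Net.nil)))))))))

noncomputable def nets_6 : Net :=
 (Net.cons 12 (nat_lit 0x260)
 (Net.cons 6 (nat_lit 0x20030)
 (Net.cons 3 (nat_lit 0x4104)
 (Net.cons 1 (nat_lit 0x8048)
 (Net.cons 1 (nat_lit 0x10490)
 (Net.cons 1 (nat_lit 0x8208)
 (Net.cons 3 (nat_lit 0x1440c6)
 (Net.cons 6 (nat_lit 0x20030)
 (Net.cons 12 (nat_lit 0x260)
 Net.nil)))))))))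

noncomputable def nets_7 : Net :=
 (Net.cons 12 (nat_lit 0xe8)
 (Net.cons 6 (nat_lit 0x2c002)
 (Net.cons 3 (nat_lit 0x84000)
 (Net.cons 1 (nat_lit 0x48041)
 (Net.cons 1 (nat_lit 0x490090)
 (Net.cons 1 (nat_lit 0x48040)
 (Net.cons 3 (nat_lit 0x86000)
 (Net.cons 6 (nat_lit 0x2c00a)
 (Net.cons 12 (nat_lit 0xe8)
 Net.nil)))))))))

noncomputable def nets_64 : Net :=
 (Net.cons 12 (nat_lit 0xc00)
 (Net.cons 6 (nat_lit 0x30)
 (Net.cons 3 (nat_lit 0x186000)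
 (Net.cons 1 (nat_lit 0x41000)
 (Net.cons 1 (nat_lit 0x492480)
 (Net.cons 1 (nat_lit 0x208240)
 (Net.cons 3 (nat_lit 0x1860c0)
 (Net.cons 6 (nat_lit 0x21030)
 (Net.cons 12 (nat_lit 0xc00)
 Net.nil)))))))))

noncomputable def nets : List Net := (apd [Net.nil,
 nets_1,
 Net.rev nets_1,
 nets_3,
 nets_4,
 nets_5,
 nets_6,
 nets_7,
 Net.nil,
 Net.nil,
 Net.nil,
 Net.nil,
 Net.nil,
 Net.nil,
 Net.nil,
 Net.nil,
 Net.nil,
 Net.nil,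
 Net.nil,
 Net.nil,
 Net.nil,
 Net.nil,
 Net.nil,
 Net.nil,
 Net.nil,
 Net.nil,
 Net.nil,
 Net.nil,
 Net.nil,
 Net.nil,
 Net.nil,
 Net.nil,
 Net.nil,
 Net.nil,
 Net.nil,
 Net.nil,
 Net.nil,
 Net.nil,
 Net.nil,
 Net.nil]
 [Net.nil,
 Net.nil,
 Net.nil,
 Net.nil,
 Net.nil,
 Net.nil,
 Net.nil,
 Net.nil,
 Net.nil,
 Net.nil,
 Net.nil,
 Net.nil,
 Net.nil,
 Net.nil,
 Net.nil,
 Net.nil,
 Net.nil,
 Net.nil,
 Net.nil,
 Net.nil,
 Net.nil,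
 Net.nil,
 Net.nil,
 Net.nil,
 nets_64,
 Net.rev nets_64])

theorem nets_ok : NetsOK 24 nets := netsOK_of (by decide +kernel)

theorem nets_rel : Rels (gp nets) R := rels_of_relsB (k := 5) nets_ok (by norm_num) (by decide +kernel)

theorem nets_iv : IvOK (gp nets) iv := ivOK_of_ivB (k := 5) nets_ok (by norm_num) (by decide +kernel)

noncomputable def slp : List (ℕ × List ℕ) := [(64,[1,3,4,1]),
 (65,[2,4,3,2])]

theorem slp_ok : slpB 24 5 nets slp L = true := by decide +kernel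

theorem mem_all {x : ℕ} (h : x ∈ L ++ slp.map (·.1)) : gp nets x ∈ cl (gp nets) L :=
  cl_eq_of_slpB nets_ok (by norm_num) slp_ok ▸ mem_cl h

theorem lb : 443520 ≤ Nat.card (cl (gp nets) L) := by
  rw [← cl_eq_of_slpB nets_ok (by norm_num) slp_ok]
  exact lb_of_chainB nets_ok (C := [([1,2,3,4,5,6,64,65],[7,1,5,1,3,5,3,6],0,0,22),
 ([1,2,3,4,5,64,65],[6,1,3,4,1,3,5],1,1,21),
 ([1,2,3,4,64,65],[5,1,3,1,64,1,5],2,2,20),
 ([64,65],[1,3,4,1,1],3,3,16),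
 ([],[64,64],19,19,3)]) (by decide +kernel)

end Cfsg.Lib.Comp.M22x
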